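import Mathlib

set_option linter.unusedSectionVars false
set_option linter.unusedVariables false
set_option linter.unusedSimpArgs false
set_option autoImplicit false
set_option linter.style.haveILetI false
set_option maxHeartbeats 400000

universe v u

noncomputable section

namespace Groth.Agent.Helper6.Tri

open CategoryTheory CategoryTheory.Limits CategoryTheory.Pretriangulated

variable {D : Type u} [Category.{v} D] [Preadditive D] [HasZeroObject D] [HasShift D ℤ]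
  [∀ n : ℤ, (shiftFunctor D n).Additive] [Pretriangulated D] [IsTriangulated D]

theorem nine_diagram {X Y X' Y' : D} (f : X ⟶ Y) (f' : X' ⟶ Y') (u : X ⟶ X') (v : Y ⟶ Y')
    (comm : f ≫ v = u ≫ f') :
    ∃ (Z Z' X'' Y'' Z'' : D) (g : Y ⟶ Z) (h : Z ⟶ (shiftFunctor D (1 : ℤ)).obj X)
      (g' : Y' ⟶ Z') (h' : Z' ⟶ (shiftFunctor D (1 : ℤ)).obj X')
      (f'' : X'' ⟶ Y'') (g'' : Y'' ⟶ Z'') (h'' : Z'' ⟶ (shiftFunctor D (1 : ℤ)).obj X'')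
      (u' : X' ⟶ X'') (u'' : X'' ⟶ (shiftFunctor D (1 : ℤ)).obj X)
      (v' : Y' ⟶ Y'') (v'' : Y'' ⟶ (shiftFunctor D (1 : ℤ)).obj Y)
      (w : Z ⟶ Z') (w' : Z' ⟶ Z'') (w'' : Z'' ⟶ (shiftFunctor D (1 : ℤ)).obj Z),
      Triangle.mk f g h ∈ distinguishedTriangles ∧ Triangle.mk f' g' h' ∈ distinguishedTriangles ∧
      Triangle.mk f'' g'' h'' ∈ distinguishedTriangles ∧
      Triangle.mk u u' u'' ∈ distinguishedTriangles ∧ Triangle.mk v v' v'' ∈ distinguishedTriangles ∧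
      Triangle.mk w w' w'' ∈ distinguishedTriangles ∧
      g ≫ w = v ≫ g' ∧ h ≫ (shiftFunctor D (1 : ℤ)).map u = w ≫ h' ∧
      f' ≫ v' = u' ≫ f'' ∧ g' ≫ w' = v' ≫ g'' ∧ h' ≫ (shiftFunctor D (1 : ℤ)).map u' = w' ≫ h'' ∧
      f'' ≫ v'' = u'' ≫ (shiftFunctor D (1 : ℤ)).map f ∧
      g'' ≫ w'' = v'' ≫ (shiftFunctor D (1 : ℤ)).map g ∧
      h'' ≫ (shiftFunctor D (1 : ℤ)).map u'' = -(w'' ≫ (shiftFunctor D (1 : ℤ)).map h) := by
  obtain ⟨Z, g, h, hT⟩ := distinguished_cocone_triangle f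
  obtain ⟨Z', g', h', hT'⟩ := distinguished_cocone_triangle f'
  obtain ⟨X'', u', u'', hU⟩ := distinguished_cocone_triangle u
  obtain ⟨Y'', v', v'', hV⟩ := distinguished_cocone_triangle v
  obtain ⟨A, p, q, hA⟩ := distinguished_cocone_triangle (f ≫ v)
  have O1 := Triangulated.someOctahedron (rfl : f ≫ v = f ≫ v) hT hV hA
  have O2 := Triangulated.someOctahedron comm.symm hU hT' hA
  obtain ⟨Z'', g'', h'', hT''⟩ := distinguished_cocone_triangle (O2.m₁ ≫ O1.m₃)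
  have h₂₃ : Triangle.mk O1.m₃ (v'' ≫ g⟦(1 : ℤ)⟧') (-O1.m₁⟦(1 : ℤ)⟧') ∈ distTriang D :=
    rot_of_distTriang _ O1.mem
  have O3 := Triangulated.someOctahedron (rfl : O2.m₁ ≫ O1.m₃ = O2.m₁ ≫ O1.m₃) O2.mem h₂₃ hT''
  have hW : Triangle.mk (O1.m₁ ≫ O2.m₃) O3.m₁ O3.m₃ ∈ distTriang D := by
    rw [rotate_distinguished_triangle]
    have h3 := O3.mem
    have e : (-O1.m₁⟦(1 : ℤ)⟧') ≫ O2.m₃⟦(1 : ℤ)⟧' = -(O1.m₁ ≫ O2.m₃)⟦(1 : ℤ)⟧' := by
      simp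
    rw [e] at h3
    exact h3
  refine ⟨Z, Z', X'', Y'', Z'', g, h, g', h', O2.m₁ ≫ O1.m₃, g'', h'', u', u'', v', v'',
    O1.m₁ ≫ O2.m₃, O3.m₁, O3.m₃, hT, hT', hT'', hU, hV, hW, ?_, ?_, ?_, ?_, ?_, ?_, ?_, ?_⟩
  · rw [O1.comm₁_assoc, O2.comm₃]
  · rw [Category.assoc, ← O2.comm₄, O1.comm₂_assoc]
  · rw [O2.comm₁_assoc, O1.comm₃]
  · calc g' ≫ O3.m₁ = (p ≫ O2.m₃) ≫ O3.m₁ := by rw [O2.comm₃]
      _ = v' ≫ g'' := by rw [Category.assoc, O3.comm₁, O1.comm₃_assoc]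
  · exact O3.comm₂.symm
  · rw [Category.assoc, ← O1.comm₄, O2.comm₂_assoc]
  · exact O3.comm₃
  · have h4 := O3.comm₄
    have h5 : h'' ≫ (shiftFunctor D (1 : ℤ)).map u'' =
        h'' ≫ (shiftFunctor D (1 : ℤ)).map O2.m₁ ≫ (shiftFunctor D (1 : ℤ)).map q := by
      rw [← Functor.map_comp, O2.comm₂]
    rw [h5, reassoc_of% h4, Preadditive.neg_comp, Preadditive.comp_neg, ← Functor.map_comp,
      O1.comm₂]

end Groth.Agent.Helper6.Tri
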